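import Cfsg.Agent.H704.S8.Num

/-!
# S4908, row SOLV of the Baby Monster: the numerical condition `NumMin` (helper532 for helper570)
-/

set_option autoImplicit false

namespace Cfsg.Agent.H532.S8

open Cfsg.Agent.H704.S8

/-- the list of the possible small degrees -/
def small : List ℕ := [1, 4371, 43757, 46530, 91884, 96255, 136136, 182172]

theorem dvd_93 {t : ℕ} (h : t ∣ 93) : t = 1 ∨ t = 3 ∨ t = 31 ∨ t = 93 := by
  have h1 : t ∈ Nat.divisors 93 := Nat.mem_divisors.2 ⟨h, by norm_num⟩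
  have h2 : Nat.divisors 93 = {1, 3, 31, 93} := by decide +kernel
  rw [h2] at h1
  simpa using h1

theorem prime_dvd_4371 {s : ℕ} (hs : s.Prime) (h : s ∣ 4371) : s = 3 ∨ s = 31 ∨ s = 47 := by
  have h1 : (4371 : ℕ) = 3 * (31 * 47) := by norm_num
  rw [h1, hs.dvd_mul, hs.dvd_mul] at h
  rcases h with h | h | h
  · exact Or.inl ((Nat.prime_dvd_prime_iff_eq hs (by norm_num)).1 h)
  · exact Or.inr (Or.inl ((Nat.prime_dvd_prime_iff_eq hs (by norm_num)).1 h))
  · exact Or.inr (Or.inr ((Nat.prime_dvd_prime_iff_eq hs (by norm_num)).1 h))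

theorem prime_dvd_96255 {q : ℕ} (hq : q.Prime) (h : q ∣ 96255) : q = 3 ∨ q = 5 ∨ q = 23 ∨ q = 31 := by
  have h1 : (96255 : ℕ) = 3 ^ 3 * (5 * (23 * 31)) := by norm_num
  rw [h1, hq.dvd_mul, hq.dvd_mul, hq.dvd_mul] at h
  rcases h with h | h | h | h
  · exact Or.inl ((Nat.prime_dvd_prime_iff_eq hq (by norm_num)).1 (hq.dvd_of_dvd_pow h))
  · exact Or.inr (Or.inl ((Nat.prime_dvd_prime_iff_eq hq (by norm_num)).1 h))
  · exact Or.inr (Or.inr (Or.inl ((Nat.prime_dvd_prime_iff_eq hq (by norm_num)).1 h)))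
  · exact Or.inr (Or.inr (Or.inr ((Nat.prime_dvd_prime_iff_eq hq (by norm_num)).1 h)))

theorem no_prime_power {q a : ℕ} (hq : q.Prime) (ha : 0 < a) (h : q ^ a ≡ 1 [MOD 4371]) {e : ℕ} (he : e ∣ 96255) :
    ¬ q ^ a ∣ e ^ 2 := by
  intro hd
  have hd2 : q ^ a ∣ 96255 ^ 2 := hd.trans (pow_dvd_pow_of_dvd he 2)
  have hq1 : q ∣ 96255 := hq.dvd_of_dvd_pow ((dvd_pow_self q ha.ne').trans hd2)
  rcases prime_dvd_96255 hq hq1 with rfl | rfl | rfl | rfl
  · have h3 : 3 ^ a ≡ 1 [MOD 3] := h.of_dvd (by norm_num)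
    have h4 : 3 ^ a ≡ 0 [MOD 3] := (Nat.modEq_zero_iff_dvd).2 (dvd_pow_self 3 ha.ne')
    have h5 : (0 : ℕ) ≡ 1 [MOD 3] := h4.symm.trans h3
    exact absurd h5 (by decide)
  · have ha3 : a < 3 := by
      by_contra hc
      have h3 : 5 ^ 3 ∣ 96255 ^ 2 := (pow_dvd_pow 5 (by omega)).trans hd2
      revert h3
      decide +kernel
    interval_cases a
    · revert h; decide
    · revert h; decide
  · have ha3 : a < 3 := by
      by_contra hc
      have h3 : 23 ^ 3 ∣ 96255 ^ 2 := (pow_dvd_pow 23 (by omega)).trans hd2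
      revert h3
      decide +kernel
    interval_cases a
    · revert h; decide
    · revert h; decide
  · have h3 : 31 ^ a ≡ 1 [MOD 31] := h.of_dvd (by norm_num)
    have h4 : 31 ^ a ≡ 0 [MOD 31] := (Nat.modEq_zero_iff_dvd).2 (dvd_pow_self 31 ha.ne')
    have h5 : (0 : ℕ) ≡ 1 [MOD 31] := h4.symm.trans h3
    exact absurd h5 (by decide)

theorem chk3 : ∀ d ∈ small, ∀ t ∈ Nat.divisors (4371 / 3), t ∣ d → 1 < d / t → d / t < 3 ^ 2 → ¬ 3 ∣ d / t →
    ¬ d / t ∣ gl 3 1 := by decide +kernel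

theorem chk31 : ∀ d ∈ small, ∀ t ∈ Nat.divisors (4371 / 31), t ∣ d → 1 < d / t → d / t < 31 ^ 2 → ¬ 31 ∣ d / t →
    ¬ d / t ∣ gl 31 1 := by decide +kernel

theorem chk47 : ∀ d ∈ small, ∀ t ∈ Nat.divisors (4371 / 47), t ∣ d → 1 < d / t → d / t < 47 ^ 2 → ¬ 47 ∣ d / t →
    ¬ d / t ∣ gl 47 1 := by decide +kernel

theorem sc_step {D : Set ℕ} (hs : ∀ d ∈ D, d ≤ 205437 → d ∈ small) {s : ℕ}
    (hchk : ∀ d ∈ small, ∀ t ∈ Nat.divisors (4371 / s), t ∣ d → 1 < d / t → d / t < s ^ 2 → ¬ s ∣ d / t →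
      ¬ d / t ∣ gl s 1) (h0 : 4371 / s ≠ 0) (hb : (s ^ 2 - 1) * (4371 / s) ≤ 205437) {o t : ℕ} (ho : 1 < o)
    (ho2 : o < s ^ 2) (hso : ¬ s ∣ o) (hgl : o ∣ gl s 1) (ht : t ∣ 4371 / s) : o * t ∉ D := by
  intro hD
  have ht0 : 0 < t := Nat.pos_of_dvd_of_pos ht (Nat.pos_of_ne_zero h0)
  have hle : o * t ≤ (s ^ 2 - 1) * (4371 / s) :=
    Nat.mul_le_mul (by omega) (Nat.le_of_dvd (Nat.pos_of_ne_zero h0) ht)
  have h1 := hs _ hD (hle.trans hb)
  have h2 : o * t / t = o := Nat.mul_div_cancel _ ht0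
  refine hchk _ h1 t (Nat.mem_divisors.2 ⟨ht, h0⟩) (Dvd.intro_left o rfl) ?_ ?_ ?_ ?_ <;> rw [h2] <;> assumption

theorem sc1 {D : Set ℕ} (hs : ∀ d ∈ D, d ≤ 205437 → d ∈ small) : SC1 D 4371 := by
  refine SC1.of_coprime (by norm_num) ?_
  intro s c o t hsp hc hsc ho ho2 hso hgl ht
  have hs1 : s ∣ 4371 := (dvd_pow_self s (by omega)).trans hsc
  have hc1 : c = 1 := by
    by_contra hne
    have h2 : s ^ 2 ∣ 4371 := (pow_dvd_pow s (by omega)).trans hsc
    rcases prime_dvd_4371 hsp hs1 with rfl | rfl | rfl <;> revert h2 <;> decide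
  subst hc1
  rw [pow_one] at ht
  rw [mul_one] at ho2
  rcases prime_dvd_4371 hsp hs1 with rfl | rfl | rfl
  · exact sc_step hs chk3 (by norm_num) (by norm_num) ho ho2 hso hgl ht
  · exact sc_step hs chk31 (by norm_num) (by norm_num) ho ho2 hso hgl ht
  · exact sc_step hs chk47 (by norm_num) (by norm_num) ho ho2 hso hgl ht

theorem kill {D : Set ℕ} (h2 : 96255 ∈ D) (h961 : ∀ d ∈ D, ¬ 961 ∣ d) (hx1 : 13571955 ∉ D) (hx2 : 4523985 ∉ D) :
    Kill D 4371 := by
  refine ⟨?_, ?_⟩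
  · intro p k hp hk
    exfalso
    have h3 : 3 ∣ p ^ k := by rw [← hk]; norm_num
    have h31 : 31 ∣ p ^ k := by rw [← hk]; norm_num
    have e3 : 3 = p := (Nat.prime_dvd_prime_iff_eq (by norm_num) hp).1 (Nat.Prime.dvd_of_dvd_pow (by norm_num) h3)
    have e31 : 31 = p := (Nat.prime_dvd_prime_iff_eq (by norm_num) hp).1 (Nat.Prime.dvd_of_dvd_pow (by norm_num) h31)
    omega
  · intro q a hq ha hm
    refine ⟨96255, h2, ?_⟩
    intro e he ht
    refine ⟨?_, no_prime_power hq ha hm he⟩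
    have he0 : 0 < e := Nat.pos_of_dvd_of_pos he (by norm_num)
    have hmul : e * (96255 / e) = 96255 := Nat.mul_div_cancel' he
    generalize 96255 / e = t at ht hmul
    have h93 : t ∣ 93 := by
      have h : t ∣ Nat.gcd 96255 4371 := Nat.dvd_gcd (Dvd.intro_left e hmul) ht
      have h' : Nat.gcd 96255 4371 = 93 := by decide +kernel
      rwa [h'] at h
    rcases dvd_93 h93 with rfl | rfl | rfl | rfl
    · have : e = 96255 := by omega
      subst this
      exact fun h => h961 _ h (by norm_num)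
    · have : e = 32085 := by omega
      subst this
      exact fun h => h961 _ h (by norm_num)
    · have : e = 3105 := by omega
      subst this
      exact hx1
    · have : e = 1035 := by omega
      subst this
      exact hx2

/-- the numerical condition for the Baby Monster -/
theorem numMin {D : Set ℕ} (h1 : 4371 ∈ D) (h2 : 96255 ∈ D)
    (hs : ∀ d ∈ D, d ≤ 205437 → d ∈ ([1, 4371, 43757, 46530, 91884, 96255, 136136, 182172] : List ℕ))
    (_hpos : ∀ d ∈ D, 0 < d) (h961 : ∀ d ∈ D, ¬ 961 ∣ d) (hx1 : 13571955 ∉ D) (hx2 : 4523985 ∉ D) : NumMin D := by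
  refine ⟨4371, h1, by norm_num, ?_, kill h2 h961 hx1 hx2, sc1 hs⟩
  intro d hd
  by_cases hle : d ≤ 205437
  · have h := hs d hd hle
    simp only [List.mem_cons, List.not_mem_nil, or_false] at h
    rcases h with h | h | h | h | h | h | h | h
    · exact Or.inl h
    all_goals exact Or.inr (by omega)
  · exact Or.inr (by omega)

end Cfsg.Agent.H532.S8

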